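import Groth.Agent.S13404
import Mathlib.RingTheory.Bialgebra.Hom
import Mathlib.RingTheory.Unramified.Basic
import Mathlib.RingTheory.Ideal.IdempotentFG
import Mathlib.RingTheory.Etale.Basic

/-! Connected components of finite flat group schemes: rigidity lemmas for idempotents. -/

set_option autoImplicit false
universe u

open scoped TensorProduct

namespace HopfConnLib

variable {R : Type u} [CommRing R]

/-- An idempotent of `T ⊗ B`, `B` finite local augmented, equal to one along the augmentation is one. -/
theorem eq_one_of_counit [IsLocalRing R] (T B : Type u) [CommRing T] [Algebra R T] [Module.Finite R T]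
    [CommRing B] [IsLocalRing B] [Algebra R B] [Module.Finite R B] (ε : B →ₐ[R] R) {x : T ⊗[R] B}
    (hx : IsIdempotentElem x)
    (h1 : Algebra.TensorProduct.lift (AlgHom.id R T) ((Algebra.ofId R T).comp ε) (fun _ _ => Commute.all _ _) x = 1) :
    x = 1 := by
  classical
  set m := IsLocalRing.maximalIdeal R
  let il : T →ₐ[R] T ⊗[R] B := Algebra.TensorProduct.includeLeft
  let ir : B →ₐ[R] T ⊗[R] B := Algebra.TensorProduct.includeRight
  let E := Algebra.TensorProduct.lift (AlgHom.id R T) ((Algebra.ofId R T).comp ε) (fun _ _ => Commute.all _ _)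
  let Kε : Ideal B := RingHom.ker ε
  let P : Ideal (T ⊗[R] B) := Kε.map ir
  have hP : ∀ t : T ⊗[R] B, t - il (E t) ∈ P := by
    intro t
    induction t using TensorProduct.induction_on with
    | zero => rw [map_zero, map_zero, sub_zero]; exact P.zero_mem
    | tmul a c =>
      have key : a ⊗ₜ[R] c - il (a * algebraMap R T (ε c)) = il a * ir (c - algebraMap R B (ε c)) := by
        rw [map_sub, AlgHom.commutes, map_mul, AlgHom.commutes, mul_sub,
          show il a * ir c = a ⊗ₜ[R] c by simp [il, ir]]
      rw [show E (a ⊗ₜ[R] c) = a * algebraMap R T (ε c) from Algebra.TensorProduct.lift_tmul _ _ _ _ _, key]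
      refine P.mul_mem_left _ (Ideal.mem_map_of_mem ir ?_)
      rw [RingHom.mem_ker, map_sub, AlgHom.commutes]
      exact sub_self _
    | add a c ha hc =>
      rw [map_add, map_add, add_sub_add_comm]
      exact P.add_mem ha hc
  obtain ⟨N, hN⟩ := Groth.Agent.S13404.exists_pow_le (R := R) B
  let M := m.map (algebraMap R (T ⊗[R] B))
  have hpow : P ^ (N + 1) ≤ M := by
    rw [show P ^ (N + 1) = (Kε ^ (N + 1)).map ir from (Ideal.map_pow _ _ _).symm]
    refine (Ideal.map_mono ((Ideal.pow_right_mono (IsLocalRing.le_maximalIdeal (RingHom.ker_ne_top ε)) _).trans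
      ((Ideal.pow_le_pow_right (Nat.le_succ N)).trans hN))).trans ?_
    change Ideal.map (ir : B →+* T ⊗[R] B) (Ideal.map (algebraMap R B) m) ≤ M
    rw [Ideal.map_map, AlgHom.comp_algebraMap]
  have hy : (1 - x) ∈ M := by
    have h0 := hP (1 - x)
    rw [map_sub, map_one, show E x = 1 from h1, sub_self, map_zero, sub_zero] at h0
    have := hpow (Ideal.pow_mem_pow h0 (N + 1))
    rwa [hx.one_sub.pow_eq (Nat.succ_ne_zero N)] at this
  have hjac : M ≤ (⊥ : Ideal (T ⊗[R] B)).jacobson := by
    refine le_sInf ?_
    rintro Q ⟨-, hQ⟩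
    haveI := hQ
    haveI : Algebra.IsIntegral R (T ⊗[R] B) := Algebra.IsIntegral.of_finite R _
    exact Ideal.map_le_iff_le_comap.2
      (IsLocalRing.eq_maximalIdeal (Ideal.isMaximal_comap_of_isIntegral_of_isMaximal Q)).ge
  have hu : IsUnit x := by
    obtain ⟨u, hu⟩ := Ideal.mem_jacobson_bot.1 (hjac hy) (-1)
    rw [show (1 - x) * -1 + 1 = x by ring] at hu
    exact ⟨u, hu⟩
  exact hu.mul_left_cancel ((show x * x = x from hx).trans (mul_one x).symm)

/-- A map from an unramified augmented algebra to a local ring compatible with augmentations is constant. -/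
theorem eq_algebraMap_of_unramified (C B : Type u) [CommRing C] [Algebra R C] [IsNoetherianRing C]
    [Algebra.FormallyUnramified R C] [CommRing B] [IsLocalRing B] [Algebra R B] (εC : C →ₐ[R] R) (εB : B →ₐ[R] R)
    (φ : C →ₐ[R] B) (hφ : εB.comp φ = εC) (c : C) : φ c = algebraMap R B (εC c) := by
  haveI : Nontrivial R := (algebraMap R B).domain_nontrivial
  let K : Ideal C := RingHom.ker εC
  have hK : IsIdempotentElem K := by
    let Q := C ⧸ (K * K)
    have hext : Ideal.Quotient.mkₐ R (K * K) = (Algebra.ofId R Q).comp εC := by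
      refine Algebra.FormallyUnramified.ext (I := K.map (Ideal.Quotient.mk (K * K))) ⟨2, ?_⟩ fun x => ?_
      · rw [← Ideal.map_pow, pow_two, Ideal.map_quotient_self]
        rfl
      · rw [Ideal.Quotient.eq]
        change Ideal.Quotient.mk (K * K) x - algebraMap R Q (εC x) ∈ _
        rw [IsScalarTower.algebraMap_apply R C Q, Ideal.Quotient.algebraMap_eq, ← map_sub]
        refine Ideal.mem_map_of_mem _ ?_
        rw [RingHom.mem_ker, map_sub, AlgHom.commutes, Algebra.algebraMap_self_apply, sub_self]
    refine le_antisymm Ideal.mul_le_left fun x hx => Ideal.Quotient.eq_zero_iff_mem.1 ?_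
    refine (AlgHom.congr_fun hext x).trans ?_
    rw [AlgHom.comp_apply, RingHom.mem_ker.1 hx, map_zero]
  obtain ⟨f, hf, hKf⟩ := (K.isIdempotentElem_iff_of_fg (IsNoetherian.noetherian K)).1 hK
  have hf0 : φ f = 0 := by
    rcases IsLocalRing.isUnit_or_isUnit_one_sub_self (φ f) with h | h
    · have h1 := h.map εB
      rw [show εB (φ f) = εC f from AlgHom.congr_fun hφ f,
        RingHom.mem_ker.1 (hKf ▸ Submodule.mem_span_singleton_self f : f ∈ K)] at h1
      exact absurd h1 not_isUnit_zero
    · refine h.mul_left_cancel ?_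
      rw [sub_mul, one_mul, (hf.map φ).eq, sub_self, mul_zero]
  have hx : c - algebraMap R C (εC c) ∈ K := by
    rw [RingHom.mem_ker, map_sub, AlgHom.commutes, Algebra.algebraMap_self_apply, sub_self]
  rw [hKf, Ideal.submodule_span_eq, Ideal.mem_span_singleton'] at hx
  obtain ⟨y, hy⟩ := hx
  rw [eq_add_of_sub_eq hy.symm, map_add, map_mul, hf0, mul_zero, zero_add, AlgHom.commutes, map_add, map_mul,
    RingHom.mem_ker.1 (hKf ▸ Submodule.mem_span_singleton_self f : f ∈ K), mul_zero, zero_add,
    AlgHom.commutes, Algebra.algebraMap_self_apply]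

/-- Two idempotents with counit one and local components agree. -/
theorem idem_eq_of_local {B : Type u} [CommRing B] [Algebra R B] [Nontrivial R] (ε : B →ₐ[R] R) {f f' : B}
    (hf : IsIdempotentElem f) (hf' : IsIdempotentElem f') (h : ε f = 1) (h' : ε f' = 1)
    (hl : IsLocalRing (B ⧸ Ideal.span {1 - f})) (hl' : IsLocalRing (B ⧸ Ideal.span {1 - f'})) : f = f' := by
  have key : ∀ a b : B, IsIdempotentElem a → IsIdempotentElem b → ε a = 1 → ε b = 1 →
      IsLocalRing (B ⧸ Ideal.span {1 - a}) → a = a * b := by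
    intro a b ha hb h1 h2 hla
    haveI := hla
    have hker : ∀ x ∈ Ideal.span {1 - a}, ε x = 0 := fun x hx => by
      obtain ⟨c, rfl⟩ := Ideal.mem_span_singleton'.1 hx
      rw [map_mul, map_sub, map_one, h1, sub_self, mul_zero]
    let q := Ideal.Quotient.mk (Ideal.span {1 - a})
    let εq : B ⧸ Ideal.span {1 - a} →ₐ[R] R := Ideal.Quotient.liftₐ _ ε hker
    rcases IsLocalRing.isUnit_or_isUnit_one_sub_self (q b) with hu | hu
    · have hb1 : q b = q 1 := by
        rw [map_one]
        refine hu.mul_left_cancel ?_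
        rw [(hb.map q).eq, mul_one]
      obtain ⟨c, hc⟩ := Ideal.mem_span_singleton'.1 (Ideal.Quotient.eq.1 hb1)
      linear_combination a * hc + c * ha.eq
    · have h0 := hu.map εq
      rw [map_sub, map_one, show εq (q b) = 1 from h2, sub_self] at h0
      exact absurd h0 not_isUnit_zero
  rw [key f f' hf hf' h h' hl, mul_comm]
  exact (key f' f hf' hf h' h hl').symm

end HopfConnLib
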